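import Cfsg.Agent.FGSB.EPPO
import Cfsg.Agent.FourPrimes.Basic
import Cfsg.Agent.Char.CNTheorem
import Cfsg.Agent.ZStar.RankOneApps
import Cfsg.Agent.Invol.Dihedral

/-!
Finite groups in which all elements outside a normal subgroup `N` have prime power order:
if the quotient is not solvable then `N` is a two-group.
-/

set_option autoImplicit false
set_option linter.unusedSectionVars false

namespace CfsgLib.OutsidePrimePow

open Subgroup

variable {G : Type*} [Group G] [Finite G]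

/-- Commuting elements of coprime orders whose product has prime power order. -/
theorem eq_one_of_commute {x u : G} (hx : x ≠ 1) (hc : Commute x u)
    (hco : (orderOf x).Coprime (orderOf u)) (hpp : IsPrimePow (orderOf (x * u))) : u = 1 := by
  rw [hc.orderOf_mul_eq_mul_orderOf_of_coprime hco] at hpp
  obtain ⟨p, k, hp, -, hk⟩ := hpp
  have hp' := hp.nat_prime
  by_contra hu
  obtain ⟨i, -, hi⟩ := (Nat.dvd_prime_pow hp').1 (show orderOf x ∣ p ^ k from hk ▸ dvd_mul_right _ _)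
  obtain ⟨j, -, hj⟩ := (Nat.dvd_prime_pow hp').1 (show orderOf u ∣ p ^ k from hk ▸ dvd_mul_left _ _)
  rw [hi, hj] at hco
  rcases Nat.eq_zero_or_pos i with h | h
  · rw [h, pow_zero, orderOf_eq_one_iff] at hi
    exact hx hi
  rcases Nat.eq_zero_or_pos j with h' | h'
  · rw [h', pow_zero, orderOf_eq_one_iff] at hj
    exact hu hj
  exact hp'.ne_one ((Nat.coprime_self p).1 ((Nat.coprime_pow_left_iff h _ _).1
    ((Nat.coprime_pow_right_iff h' _ _).1 hco)))

/-- An automorphism of order two acting without fixed points on a finite group inverts. -/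
theorem inverts {X : Subgroup G} {a : G} (ha : a ∈ normalizer (X : Set G))
    (ha2 : ∀ u ∈ X, Commute (a * a) u) (hf : ∀ u ∈ X, Commute a u → u = 1) {u : G} (hu : u ∈ X) :
    a * u * a⁻¹ = u⁻¹ := by
  have hm : ∀ {v : G}, v ∈ X → a * v * a⁻¹ ∈ X := fun {v} hv => (mem_normalizer_iff.1 ha v).1 hv
  let f : X → X := fun v => ⟨(v : G)⁻¹ * (a * v * a⁻¹), mul_mem (inv_mem v.2) (hm v.2)⟩
  have hinj : Function.Injective f := by
    intro v w e
    have e' : (v : G)⁻¹ * (a * v * a⁻¹) = (w : G)⁻¹ * (a * w * a⁻¹) := congrArg Subtype.val e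
    have hc : Commute a ((w : G) * (v : G)⁻¹) := by
      show a * ((w : G) * (v : G)⁻¹) = (w : G) * (v : G)⁻¹ * a
      calc a * ((w : G) * (v : G)⁻¹) = (w : G) * ((w : G)⁻¹ * (a * w * a⁻¹)) * a * (v : G)⁻¹ := by group
        _ = (w : G) * ((v : G)⁻¹ * (a * v * a⁻¹)) * a * (v : G)⁻¹ := by rw [e']
        _ = _ := by group
    exact (Subtype.ext (mul_inv_eq_one.1 (hf _ (mul_mem w.2 (inv_mem v.2)) hc))).symm
  obtain ⟨v, hv⟩ := Finite.injective_iff_surjective.1 hinj ⟨u, hu⟩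
  have e : (v : G)⁻¹ * (a * v * a⁻¹) = u := congrArg Subtype.val hv
  rw [← e]
  calc a * ((v : G)⁻¹ * (a * v * a⁻¹)) * a⁻¹ = (a * v * a⁻¹)⁻¹ * (a * a * v * (a * a)⁻¹) := by group
    _ = (a * v * a⁻¹)⁻¹ * (v : G) := by rw [(ha2 v v.2).eq, mul_inv_cancel_right]
    _ = _ := by group

variable {N : Subgroup G} [N.Normal]

/-- No four group outside `N` acts on an odd subgroup. -/
theorem eq_bot_of_four (hout : ∀ x : G, x ∉ N → IsPrimePow (orderOf x)) {p : ℕ} (hp : p.Prime) (hp2 : p ≠ 2)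
    {X : Subgroup G} (hX : IsPGroup p X) {a b : G} (ha : a ∈ normalizer (X : Set G))
    (hb : b ∈ normalizer (X : Set G)) (haN : a ∉ N) (hbN : b ∉ N) (habN : a * b ∉ N)
    (ha' : IsPGroup 2 (zpowers a)) (hb' : IsPGroup 2 (zpowers b)) (hab' : IsPGroup 2 (zpowers (a * b)))
    (ha2 : ∀ u ∈ X, Commute (a * a) u) (hb2 : ∀ u ∈ X, Commute (b * b) u)
    (hab2 : ∀ u ∈ X, Commute (a * b * (a * b)) u) : X = ⊥ := by
  haveI := Fact.mk hp
  have hco : ∀ {c u : G}, IsPGroup 2 (zpowers c) → u ∈ X → (orderOf c).Coprime (orderOf u) := by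
    intro c u hc hu
    obtain ⟨i, hi⟩ := IsPGroup.iff_orderOf.1 hc ⟨c, mem_zpowers c⟩
    obtain ⟨j, hj⟩ := IsPGroup.iff_orderOf.1 hX ⟨u, hu⟩
    rw [← Subgroup.orderOf_coe] at hi hj
    rw [hi, hj]
    exact Nat.Coprime.pow i j ((Nat.coprime_primes Nat.prime_two hp).2 (Ne.symm hp2))
  have hf : ∀ {c : G}, c ∉ N → IsPGroup 2 (zpowers c) → ∀ u ∈ X, Commute c u → u = 1 := by
    intro c hcN hc u hu hcu
    have hc1 : c ≠ 1 := fun e => hcN (e ▸ one_mem N)
    refine eq_one_of_commute hc1 hcu (hco hc hu) (hout _ fun hm => hcN ?_)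
    obtain ⟨n, hn⟩ : c ∈ zpowers (c * u) := by
      rw [mem_zpowers_iff]
      have hd := Int.gcd_eq_gcd_ab (orderOf c) (orderOf u)
      rw [Int.gcd_natCast_natCast, (hco hc hu).gcd_eq_one, Nat.cast_one] at hd
      refine ⟨(orderOf u : ℤ) * Int.gcdB (orderOf c) (orderOf u), ?_⟩
      rw [hcu.mul_zpow]
      have e1 : u ^ ((orderOf u : ℤ) * Int.gcdB (orderOf c) (orderOf u)) = 1 := by
        rw [zpow_mul, zpow_natCast, pow_orderOf_eq_one, one_zpow]
      have e2 : c ^ ((orderOf u : ℤ) * Int.gcdB (orderOf c) (orderOf u)) = c := by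
        rw [show (orderOf u : ℤ) * Int.gcdB (orderOf c) (orderOf u) =
          1 - (orderOf c : ℤ) * Int.gcdA (orderOf c) (orderOf u) by omega]
        rw [zpow_sub, zpow_mul, zpow_natCast, pow_orderOf_eq_one, one_zpow, inv_one, mul_one, zpow_one]
      rw [e1, e2, mul_one]
    rw [← hn]
    exact zpow_mem hm n
  rw [eq_bot_iff]
  intro u hu
  have e1 : b * u * b⁻¹ = u⁻¹ := inverts hb hb2 (hf hbN hb') hu
  have e2 : a * u⁻¹ * a⁻¹ = u := by rw [← conj_inv, inverts ha ha2 (hf haN ha') hu, inv_inv]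
  have e3 : a * b * u * (a * b)⁻¹ = u⁻¹ := inverts (mul_mem ha hb) hab2 (hf habN hab') hu
  rw [show a * b * u * (a * b)⁻¹ = a * (b * u * b⁻¹) * a⁻¹ by group, e1, e2] at e3
  have h2 : u * u = 1 := by rw [← eq_inv_iff_mul_eq_one]; exact e3
  rw [mem_bot]
  obtain ⟨j, hj⟩ := IsPGroup.iff_orderOf.1 hX ⟨u, hu⟩
  rw [← Subgroup.orderOf_coe] at hj
  have h2' : orderOf u ∣ 2 := orderOf_dvd_of_pow_eq_one (by rw [pow_two, h2])
  rw [hj] at h2'
  have : p ^ j = 1 := Nat.eq_one_of_dvd_coprimes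
    (Nat.Coprime.pow_left j ((Nat.coprime_primes hp Nat.prime_two).2 hp2)) dvd_rfl h2'
  rw [← orderOf_eq_one_iff]
  exact hj.trans this

section Quotient

variable {Q : Type*} [Group Q] [Finite Q] (hpp : ∀ g : Q, g ≠ 1 → IsPrimePow (orderOf g))

include hpp in
theorem isCNGroup : Cfsg.IsCNGroup Q := by
  intro g hg
  obtain ⟨p, k, hp, hk, hpk⟩ := hpp g hg
  haveI := Fact.mk hp.nat_prime
  refine IsPGroup.isNilpotent (p := p) (IsPGroup.iff_orderOf.2 fun c => ?_)
  rw [← Subgroup.orderOf_coe]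
  have hcg : Commute g (c : Q) := (mem_centralizer_singleton_iff.1 c.2).symm
  obtain ⟨e, m, hm, hcm⟩ := Nat.exists_eq_pow_mul_and_not_dvd (orderOf_pos (c : Q)).ne' p hp.nat_prime.ne_one
  refine ⟨e, ?_⟩
  have hord : orderOf ((c : Q) ^ p ^ e) = m := by
    rw [orderOf_pow' _ (pow_ne_zero _ hp.nat_prime.pos.ne'), hcm,
      Nat.gcd_eq_right (dvd_mul_right _ _), Nat.mul_div_cancel_left _ (pow_pos hp.nat_prime.pos _)]
  have hco : (orderOf g).Coprime (orderOf ((c : Q) ^ p ^ e)) := by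
    rw [hord, ← hpk]
    exact Nat.Coprime.pow_left k (hp.nat_prime.coprime_iff_not_dvd.2 hm)
  have h1 := eq_one_of_commute hg (hcg.pow_right _) hco (hpp _ fun he => ?_)
  · rw [h1, orderOf_one] at hord
    rw [hcm, ← hord, mul_one]
  · have h2 := hcg.pow_right (p ^ e) |>.orderOf_mul_eq_mul_orderOf_of_coprime hco
    rw [he, orderOf_one] at h2
    exact hg (orderOf_eq_one_iff.1 (Nat.eq_one_of_mul_eq_one_right h2.symm))

include hpp in
theorem isSolvable_of_odd (hodd : Odd (Nat.card Q)) : Group.IsSolvable Q :=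
  CfsgLib.Char.cn_odd_solvable hodd (isCNGroup hpp)

include hpp in
/-- A nonsolvable group with all element orders prime powers has a four group. -/
theorem exists_klein (hns : ¬ Group.IsSolvable Q) : ∃ E : Subgroup Q, IsKleinFour E := by
  by_contra hcon
  push Not at hcon
  have heven : Even (Nat.card Q) := by
    rcases Nat.even_or_odd (Nat.card Q) with h | h
    · exact h
    · exact absurd (isSolvable_of_odd hpp h) hns
  obtain ⟨z, hz, O, hO, hOodd, hcen⟩ := CfsgLib.ZStar.exists_central_modulo heven hcon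
  haveI := hO
  haveI : Group.IsSolvable O := isSolvable_of_odd (fun g hg => by
    rw [← Subgroup.orderOf_coe]
    exact hpp g (fun e => hg (Subtype.ext e))) hOodd
  apply hns
  have hzO : z ∉ O := fun h => by
    have h1 := Subgroup.orderOf_dvd_natCard O h
    rw [hz] at h1
    exact (Nat.not_even_iff_odd.2 hOodd) (even_iff_two_dvd.2 h1)
  have hz1 : QuotientGroup.mk' O z ≠ 1 := fun e => hzO ((QuotientGroup.eq_one_iff z).1 e)
  have hppQ : ∀ g : Q ⧸ O, g ≠ 1 → IsPrimePow (orderOf g) := fun g hg =>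
    (CfsgLib.EPPO.quotient_eppo hpp O g).resolve_right hg
  have hp2 : IsPGroup 2 (Q ⧸ O) := by
    refine IsPGroup.iff_orderOf.2 fun g => ?_
    have hcomm : Commute (QuotientGroup.mk' O z) g := by
      obtain ⟨g, rfl⟩ := QuotientGroup.mk'_surjective O g
      have := (QuotientGroup.eq_one_iff _).2 (hcen g)
      rw [← QuotientGroup.mk'_apply, map_mul, map_mul, map_mul, map_inv, map_inv] at this
      exact mul_inv_eq_iff_eq_mul.1 (mul_inv_eq_one.1 this)
    obtain ⟨e, m, hm, hcm⟩ := Nat.exists_eq_pow_mul_and_not_dvd (orderOf_pos g).ne' 2 (by norm_num)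
    refine ⟨e, ?_⟩
    have hord : orderOf (g ^ 2 ^ e) = m := by
      rw [orderOf_pow' _ (pow_ne_zero _ two_ne_zero), hcm,
        Nat.gcd_eq_right (dvd_mul_right _ _), Nat.mul_div_cancel_left _ (pow_pos two_pos _)]
    have hoz : orderOf (QuotientGroup.mk' O z) = 2 := by
      refine orderOf_eq_prime (hp := ⟨Nat.prime_two⟩) ?_ hz1
      rw [← map_pow, ← hz, pow_orderOf_eq_one, map_one]
    have hco : (orderOf (QuotientGroup.mk' O z)).Coprime (orderOf (g ^ 2 ^ e)) := by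
      rw [hoz, hord]
      exact Nat.prime_two.coprime_iff_not_dvd.2 hm
    have h1 := eq_one_of_commute hz1 (hcomm.pow_right _) hco (hppQ _ fun he => ?_)
    · rw [h1, orderOf_one] at hord
      rw [hcm, ← hord, mul_one]
    · have h2 := hcomm.pow_right (2 ^ e) |>.orderOf_mul_eq_mul_orderOf_of_coprime hco
      rw [he, orderOf_one, hoz] at h2
      omega
  haveI := hp2.isNilpotent
  exact (Group.isSolvable_iff_subgroup_quotient O).2 ⟨inferInstance, inferInstance⟩

end Quotient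

/-- A minimal supplement of `N` inside a subgroup covering `G ⧸ N` normalizes the Sylow subgroups of
its intersection with `N`. -/
theorem le_normalizer_sylow {J : Subgroup G} (hJ : J ⊔ N = ⊤)
    (hmin : ∀ H : Subgroup G, H ≤ J → H ⊔ N = ⊤ → H = J) (p : ℕ) [Fact p.Prime]
    (P : Sylow p (N.subgroupOf J)) :
    J ≤ normalizer ((((P : Subgroup _).map (N.subgroupOf J).subtype).map J.subtype : Subgroup G) : Set G) := by
  have htop := P.normalizer_sup_eq_top
  set H := (normalizer (((P : Subgroup (N.subgroupOf J)).map (N.subgroupOf J).subtype : Subgroup J) : Set J)).map J.subtype with hH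
  have h1 : H ⊔ N = ⊤ := by
    rw [eq_top_iff, ← hJ]
    refine sup_le ?_ le_sup_right
    have : (⊤ : Subgroup J).map J.subtype ≤ H ⊔ (N.subgroupOf J).map J.subtype := by
      rw [← htop, Subgroup.map_sup]
    intro x hx
    have h2 := this ⟨⟨x, hx⟩, mem_top _, rfl⟩
    refine (sup_le_sup_left ?_ H) h2
    rintro _ ⟨⟨y, hy⟩, hm, rfl⟩
    exact hm
  have hHJ : H = J := hmin H (map_subtype_le _) h1
  refine hHJ.ge.trans ?_
  rw [hH]
  exact Subgroup.le_normalizer_map J.subtype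

/-- If all elements outside `N` have prime power order and `G ⧸ N` is not solvable, then `N` is a two-group. -/
theorem isPGroup_two (hns : ¬ Group.IsSolvable (G ⧸ N)) (hout : ∀ x : G, x ∉ N → IsPrimePow (orderOf x))
    (r : ℕ) (hr : r.Prime) (hr2 : r ≠ 2) : ¬ r ∣ Nat.card N := by
  classical
  intro hrN
  haveI := Fact.mk hr
  haveI : Fact (Nat.Prime 2) := ⟨Nat.prime_two⟩
  set ψ := QuotientGroup.mk' N with hψ
  have hψ1 : ∀ {g : G}, ψ g = 1 ↔ g ∈ N := fun {g} => QuotientGroup.eq_one_iff g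
  have hQpp : ∀ g : G ⧸ N, g ≠ 1 → IsPrimePow (orderOf g) := by
    intro g hg
    obtain ⟨g, rfl⟩ := QuotientGroup.mk'_surjective N g
    obtain ⟨p, k, hp, -, hpk⟩ := hout g (fun h => hg (hψ1.2 h))
    have hd := orderOf_map_dvd ψ g
    rw [← hpk] at hd
    obtain ⟨i, -, hi⟩ := (Nat.dvd_prime_pow hp.nat_prime).1 hd
    refine ⟨p, i, hp, Nat.pos_of_ne_zero fun h0 => hg ?_, hi.symm⟩
    rw [h0, pow_zero, orderOf_eq_one_iff] at hi
    exact hi
  obtain ⟨R⟩ : Nonempty (Sylow r N) := inferInstance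
  set R' := (R : Subgroup N).map N.subtype with hR'
  have hR'p : IsPGroup r R' := R.2.map _
  have hR'1 : R' ≠ ⊥ := by
    rw [hR', Ne, map_eq_bot_iff_of_injective _ N.subtype_injective]
    exact R.ne_bot_of_dvd_card hrN
  have hR'N : R' ≤ N := map_subtype_le _
  -- a minimal supplement
  haveI := Fintype.ofFinite (Subgroup G)
  obtain ⟨J, hJ, hJmin⟩ := (Finset.univ.filter fun H : Subgroup G => H ≤ normalizer (R' : Set G) ∧ H ⊔ N = ⊤).exists_min_image
    (fun H => Nat.card H) ⟨normalizer (R' : Set G), Finset.mem_filter.2 ⟨Finset.mem_univ _, le_rfl, R.normalizer_sup_eq_top⟩⟩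
  simp only [Finset.mem_filter, Finset.mem_univ, true_and] at hJ hJmin
  obtain ⟨hJR, hJN⟩ := hJ
  have hmin : ∀ H : Subgroup G, H ≤ J → H ⊔ N = ⊤ → H = J := fun H h1 h2 =>
    eq_of_le_of_card_ge h1 (hJmin H ⟨h1.trans hJR, h2⟩)
  set M := N.subgroupOf J with hM
  have hlift : ∀ g : G ⧸ N, ∃ j ∈ J, ψ j = g := by
    intro g
    obtain ⟨g, rfl⟩ := QuotientGroup.mk'_surjective N g
    have hg : g ∈ J ⊔ N := by rw [hJN]; exact mem_top _
    obtain ⟨j, hj, n, hn, rfl⟩ := mem_sup_of_normal_right.1 hg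
    exact ⟨j, hj, by rw [map_mul, hψ1.2 hn, mul_one]⟩
  -- Sylow subgroups of `M`
  have hSyl : ∀ (p : ℕ) [Fact p.Prime] (P : Sylow p M), J ≤ normalizer
      ((((P : Subgroup M).map M.subtype).map J.subtype : Subgroup G) : Set G) := fun p _ P =>
    le_normalizer_sylow hJN hmin p P
  obtain ⟨W⟩ : Nonempty (Sylow 2 M) := inferInstance
  set W' := ((W : Subgroup M).map M.subtype).map J.subtype with hW'
  have hW'p : IsPGroup 2 W' := (W.2.map _).map _
  have hW'N : W' ≤ N := by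
    rintro _ ⟨_, ⟨⟨j, hj⟩, -, rfl⟩, rfl⟩
    exact hj
  have hMcoe : ∀ {g : G}, g ∈ J → g ∈ N → IsPGroup 2 (zpowers g) → g ∈ W' := by
    intro g hgJ hgN hg
    have hn : (W : Subgroup M).Normal := by
      refine ⟨fun w hw m => ?_⟩
      have h1 : ((w : J) : G) ∈ W' := ⟨_, ⟨w, hw, rfl⟩, rfl⟩
      have h2 := (mem_normalizer_iff.1 (hSyl 2 W (m : J).2) _).1 h1
      obtain ⟨_, ⟨v, hv, rfl⟩, hv'⟩ := h2
      have : v = m * w * m⁻¹ := Subtype.ext (Subtype.ext (by simpa using hv'))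
      rwa [← this]
    let g' : M := ⟨⟨g, hgJ⟩, hgN⟩
    have hg' : IsPGroup 2 (zpowers g') := by
      intro c
      obtain ⟨k, hk⟩ := hg ⟨((c : M) : J), by
        obtain ⟨n, hn⟩ := c.2
        exact ⟨n, by rw [← hn]; simp [g']⟩⟩
      exact ⟨k, Subtype.ext (Subtype.ext (Subtype.ext (by simpa using congrArg Subtype.val hk)))⟩
    obtain ⟨S, hS⟩ := hg'.exists_le_sylow
    haveI := Sylow.unique_of_normal W hn
    rw [Subsingleton.elim S W] at hS
    exact ⟨_, ⟨g', hS (mem_zpowers g'), rfl⟩, rfl⟩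
  -- two elements above a four group
  obtain ⟨E, hE⟩ := exists_klein hQpp hns
  haveI := hE
  obtain ⟨a0, ha0⟩ : ∃ a : E, a ≠ 1 := by
    by_contra hh
    push Not at hh
    haveI : Subsingleton E := ⟨fun x y => (hh x).trans (hh y).symm⟩
    have := IsKleinFour.card_four (G := E)
    rw [Nat.card_unique] at this
    omega
  obtain ⟨b0, hb0, hb0a⟩ : ∃ b : E, b ≠ 1 ∧ b ≠ a0 := by
    by_contra hh
    push Not at hh
    haveI : Fintype E := Fintype.ofFinite _
    have hsub : (Finset.univ : Finset E) ⊆ {1, a0} := fun b _ => by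
      by_cases hb : b = 1
      · simp [hb]
      · simp [hh b hb]
    have := (Finset.card_le_card hsub).trans Finset.card_le_two
    rw [Finset.card_univ, ← Nat.card_eq_fintype_card, IsKleinFour.card_four] at this
    omega
  have hsq : ∀ e : E, (e : G ⧸ N) * e = 1 := fun e => congrArg Subtype.val (IsKleinFour.mul_self e)
  have hclass : ∀ (j : G) (e : E), e ≠ 1 → ψ j = e → j ∉ N ∧ IsPGroup 2 (zpowers j) ∧ j * j ∈ N := by
    intro j e he hje
    have hjN : j ∉ N := fun h => he (Subtype.ext (by rw [← hje, hψ1.2 h, Subgroup.coe_one]))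
    have hsq' : j * j ∈ N := hψ1.1 (by rw [map_mul, hje, hsq])
    refine ⟨hjN, ?_, hsq'⟩
    obtain ⟨p, k, hp, hk, hpk⟩ := hout j hjN
    have hd := orderOf_map_dvd ψ j
    have h2 : orderOf (ψ j) = 2 :=
      orderOf_eq_prime (by rw [pow_two, hje, hsq]) (fun h => hjN (hψ1.1 h))
    rw [h2, ← hpk] at hd
    have : p = 2 := ((Nat.prime_dvd_prime_iff_eq Nat.prime_two hp.nat_prime).1 (Nat.prime_two.dvd_of_dvd_pow hd)).symm
    exact IsPGroup.of_card (n := k) (by rw [Nat.card_zpowers, ← hpk, this])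
  obtain ⟨a, haJ, ha⟩ := hlift (a0 : G ⧸ N)
  obtain ⟨b, hbJ, hb⟩ := hlift (b0 : G ⧸ N)
  have hab : ψ (a * b) = ((a0 * b0 : E) : G ⧸ N) := by rw [map_mul, ha, hb, Subgroup.coe_mul]
  have hab0 : a0 * b0 ≠ 1 := fun h => hb0a (by
    rw [eq_inv_of_mul_eq_one_right h]
    exact inv_eq_of_mul_eq_one_right (IsKleinFour.mul_self a0))
  obtain ⟨haN, ha', ha2⟩ := hclass a a0 ha0 ha
  obtain ⟨hbN, hb', hb2⟩ := hclass b b0 hb0 hb
  obtain ⟨habN, hab', hab2⟩ := hclass (a * b) _ hab0 hab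
  have hsqW : ∀ {j : G}, j ∈ J → j * j ∈ N → IsPGroup 2 (zpowers j) → j * j ∈ W' := fun {j} hj hjN hjp =>
    hMcoe (mul_mem hj hj) hjN (hjp.to_le (zpowers_le.2 (mul_mem (mem_zpowers j) (mem_zpowers j))))
  -- the odd part of `M` is trivial
  have hMp : IsPGroup 2 M := by
    have hall : ∀ p : ℕ, p.Prime → p ∣ Nat.card M → p = 2 := by
      intro p hp hpd
      by_contra hp2
      haveI := Fact.mk hp
      obtain ⟨P⟩ : Nonempty (Sylow p M) := inferInstance
      set P' := ((P : Subgroup M).map M.subtype).map J.subtype with hP'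
      have hP'p : IsPGroup p P' := (P.2.map _).map _
      have hP'N : P' ≤ N := by
        rintro _ ⟨_, ⟨⟨j, hj⟩, -, rfl⟩, rfl⟩
        exact hj
      have hP'J : P' ≤ J := map_subtype_le _
      have hdis : W' ⊓ P' = ⊥ := (IsPGroup.disjoint_of_ne 2 p (Ne.symm hp2) _ _ hW'p hP'p).eq_bot
      have hWP : ∀ w ∈ W', ∀ u ∈ P', Commute w u := by
        intro w hw u hu
        have h1 : w * u * w⁻¹ ∈ P' := (mem_normalizer_iff.1 (hSyl p P (map_subtype_le _ hw)) u).1 hu
        have h2 : u * w⁻¹ * u⁻¹ ∈ W' :=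
          (mem_normalizer_iff.1 (hSyl 2 W (hP'J hu)) w⁻¹).1 (inv_mem hw)
        have h3 : w * u * w⁻¹ * u⁻¹ ∈ W' ⊓ P' := ⟨by
          rw [show w * u * w⁻¹ * u⁻¹ = w * (u * w⁻¹ * u⁻¹) by group]
          exact mul_mem hw h2, P'.mul_mem h1 (P'.inv_mem hu)⟩
        rw [hdis, mem_bot] at h3
        exact mul_inv_eq_iff_eq_mul.1 (mul_inv_eq_one.1 h3)
      have hbot := eq_bot_of_four hout hp hp2 hP'p (hSyl p P haJ) (hSyl p P hbJ) haN hbN habN ha' hb' hab'
        (hWP _ (hsqW haJ ha2 ha')) (hWP _ (hsqW hbJ hb2 hb')) (hWP _ (hsqW (mul_mem haJ hbJ) hab2 hab'))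
      rw [hP', map_eq_bot_iff_of_injective _ J.subtype_injective,
        map_eq_bot_iff_of_injective _ M.subtype_injective] at hbot
      exact P.ne_bot_of_dvd_card hpd hbot
    exact IsPGroup.of_card (Nat.eq_prime_pow_of_unique_prime_dvd Nat.card_pos.ne' fun {d} hd hdd => hall d hd hdd)
  have hU : IsPGroup 2 (N ⊓ J : Subgroup G) := by
    refine (hMp.map J.subtype).to_le ?_
    rintro x ⟨hxN, hxJ⟩
    exact ⟨⟨x, hxJ⟩, hxN, rfl⟩
  -- an element of odd prime order
  obtain ⟨q, hq, hqd, hq2, hqr⟩ := CfsgLib.EPPO.exists_third_prime hns 2 r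
  haveI := Fact.mk hq
  obtain ⟨g0, hg0⟩ := exists_prime_orderOf_dvd_card' q hqd
  obtain ⟨y, hyJ, hy⟩ := hlift g0
  have hyN : y ∉ N := fun h => by
    rw [← hy, hψ1.2 h, orderOf_one] at hg0
    exact hq.ne_one hg0.symm
  have hyq : orderOf y = q := by
    obtain ⟨p, k, hp, hk, hpk⟩ := hout y hyN
    have hd := orderOf_map_dvd ψ y
    rw [hy, hg0, ← hpk] at hd
    have hpq : p = q := ((Nat.prime_dvd_prime_iff_eq hq hp.nat_prime).1 (hq.dvd_of_dvd_pow hd)).symm
    subst hpq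
    have hmem : y ^ p ∈ (N ⊓ J : Subgroup G) := ⟨hψ1.1 (by rw [map_pow, hy, ← hg0, pow_orderOf_eq_one]), J.pow_mem hyJ _⟩
    obtain ⟨i, hi⟩ := IsPGroup.iff_orderOf.1 hU ⟨_, hmem⟩
    rw [← Subgroup.orderOf_coe] at hi
    have hi' : orderOf (y ^ p) ∣ p ^ k := hpk ▸ orderOf_pow_dvd p
    rw [hi] at hi'
    have h1 : orderOf (y ^ p) = 1 := hi.trans (Nat.eq_one_of_dvd_coprimes
      (Nat.Coprime.pow i k ((Nat.coprime_primes Nat.prime_two hq).2 (Ne.symm hq2))) dvd_rfl hi')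
    exact orderOf_eq_prime (orderOf_eq_one_iff.1 h1) (fun h => hyN (h ▸ one_mem N))
  have hyfix : ∀ {s : ℕ} {X : Subgroup G}, s.Prime → s ≠ q → IsPGroup s X → ∀ w ∈ X, Commute y w → w = 1 := by
    intro s X hs hsq hX w hw hc
    haveI := Fact.mk hs
    obtain ⟨i, hi⟩ := IsPGroup.iff_orderOf.1 hX ⟨w, hw⟩
    rw [← Subgroup.orderOf_coe] at hi
    have hco : (orderOf y).Coprime (orderOf w) := by
      rw [hyq, hi]
      exact Nat.Coprime.pow_right i ((Nat.coprime_primes hq hs).2 (Ne.symm hsq))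
    refine eq_one_of_commute (fun e => hyN (by rw [e]; exact one_mem N)) hc hco (hout _ fun hm => ?_)
    have hd : orderOf (ψ y) ∣ orderOf w := by
      have h1 : ψ y * ψ w = 1 := by rw [← map_mul, hψ1.2 hm]
      rw [eq_inv_of_mul_eq_one_left h1, orderOf_inv]
      exact orderOf_map_dvd ψ w
    rw [hy, hg0, hi] at hd
    exact hsq ((Nat.prime_dvd_prime_iff_eq hq hs).1 (hq.dvd_of_dvd_pow hd)).symm
  have hyU : y ∈ normalizer ((N ⊓ J : Subgroup G) : Set G) := by
    rw [mem_normalizer_iff]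
    intro w
    constructor
    · rintro ⟨h1, h2⟩
      exact ⟨‹N.Normal›.conj_mem w h1 y, J.mul_mem (J.mul_mem hyJ h2) (J.inv_mem hyJ)⟩
    · rintro ⟨h1, h2⟩
      rw [show w = y⁻¹ * (y * w * y⁻¹) * y by group]
      refine ⟨?_, J.mul_mem (J.mul_mem (J.inv_mem hyJ) h2) hyJ⟩
      have := ‹N.Normal›.conj_mem _ h1 y⁻¹
      rwa [inv_inv] at this
  have hcent := CfsgLib.FourPrimes.frob hqr hR'p hyq (inf_le_right.trans hJR)
    (IsPGroup.coprime_card_of_ne 2 r (Ne.symm hr2) _ _ hU hR'p) hyU (hJR hyJ)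
    (hyfix Nat.prime_two (Ne.symm hq2) hU) (hyfix hr (Ne.symm hqr) hR'p)
  exact hR'1 (eq_bot_of_four hout hr hr2 hR'p (hJR haJ) (hJR hbJ) haN hbN habN ha' hb' hab'
    (hcent _ ⟨ha2, mul_mem haJ haJ⟩) (hcent _ ⟨hb2, mul_mem hbJ hbJ⟩)
    (hcent _ ⟨hab2, mul_mem (mul_mem haJ hbJ) (mul_mem haJ hbJ)⟩))

end CfsgLib.OutsidePrimePow
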